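import Cfsg.Agent.CosetEnum.Fi23Order.TranspositionsLow

set_option autoImplicit false
set_option maxRecDepth 100000
set_option exponentiation.threshold 200000

/-!
The product of the letter `j` with the transposition `z` of the base coset of Fi23 has cube one.
-/

namespace CfsgLib.Y555Spider

open CfsgLib.CosetEnum

/-- The word of the transposition `z`. -/
def ZF : List ℕ := (List.replicate 9 [1, 2, 3, 4, 5, 6, 8]).flatten

/-- The word of `(j z) ^ 3`. -/
def uW : List ℕ := (List.replicate 3 (7 :: ZF)).flatten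

theorem prodw_ZF : prodw Fi23.setup.g ZF = Fi23H.zEl := by
  rw [ZF, prodw_replicate]
  simp only [Fi23H.zEl, Fi23H.el10, Fi23H.el9, Fi23H.el8, Fi23H.el7, Fi23H.el6, Fi23H.el5,
    Fi23H.el4, Fi23H.el3, Fi23H.el2, Fi23H.el1, prodw, List.map_cons, List.map_nil, List.prod_cons,
    List.prod_nil, mul_one, pow_succ, pow_zero, one_mul, mul_assoc]

/-- Three applications of the table of `j z` give back the coset. -/
noncomputable def cubeEntry (i : ℕ) : Bool :=
  bif Nat.blt i 31671 then Nat.beq (ext Fi23H.w11 (ext Fi23H.w11 (ext Fi23H.w11 i))) i else true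

theorem cube_ok : allR cubeEntry 15 0 = true := by decide +kernel

theorem uW_one (φ : Fi23.setup.Grp →* Equiv.Perm (Fin Fi23H.enum.n))
    (hφ : ∀ (w : List ℕ), (∀ x ∈ w, x < Fi23.setup.k) → ∀ i : Fin Fi23H.enum.n,
      ((φ (prodw Fi23.setup.g w))⁻¹ i).val = walk Fi23H.enum.tb w i) (hinj : Function.Injective φ) :
    prodw Fi23.setup.g uW = 1 := by
  have h11 : prodw Fi23.setup.g (7 :: ZF) = Fi23H.el11 := by
    rw [prodw_cons, prodw_ZF]; rfl
  rw [uW, prodw_replicate, h11]
  apply hinj
  rw [map_one, ← inv_eq_one]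
  ext i
  have hi : i.val < 31671 := i.isLt
  have h1 := allR_spec 15 0 cube_ok i (Nat.zero_le _) (by omega)
  unfold cubeEntry at h1
  rw [show Nat.blt i.val 31671 = true by simpa using hi] at h1
  simp only [cond_true] at h1
  have h2 := Fi23H.img11 φ hφ
  rw [map_pow, ← inv_pow, Equiv.Perm.one_apply, pow_succ, pow_two, Equiv.Perm.mul_apply,
    Equiv.Perm.mul_apply, h2, h2, h2]
  exact Nat.eq_of_beq_eq_true h1

end CfsgLib.Y555Spider
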