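import Mathlib

set_option autoImplicit false

/-!
Involutions attached to the points of an affine plane of order three, with product one along lines,
are trivial.
-/

namespace CfsgLib.Y555Spider

variable {Q : Type*} [Group Q]

/-- Three involutions with product one commute. -/
theorem commute_of_line {a b c : Q} (ha : a * a = 1) (hb : b * b = 1) (hc : c * c = 1)
    (h : a * b * c = 1) : a * b = c ∧ Commute a b ∧ Commute b c := by
  have ia := inv_eq_of_mul_eq_one_right ha
  have ib := inv_eq_of_mul_eq_one_right hb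
  have ic := inv_eq_of_mul_eq_one_right hc
  have h1 : a * b = c := by rw [← ic]; exact eq_inv_of_mul_eq_one_left h
  have h3 : b * c = a := by
    rw [← ia]; exact eq_inv_of_mul_eq_one_right (by rw [← mul_assoc]; exact h)
  refine ⟨h1, ?_, ?_⟩
  · show a * b = b * a
    calc a * b = (a * b)⁻¹ := by rw [h1, ic]
      _ = b * a := by rw [mul_inv_rev, ia, ib]
  · show b * c = c * b
    calc b * c = (b * c)⁻¹ := by rw [h3, ia]
      _ = c * b := by rw [mul_inv_rev, ib, ic]

theorem plane_point_eq_one (P : ℕ → Q) (hP : ∀ i, P i * P i = 1)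
    (h036 : P 0 * P 3 * P 6 = 1) (h048 : P 0 * P 4 * P 8 = 1) (h057 : P 0 * P 5 * P 7 = 1)
    (h345 : P 3 * P 4 * P 5 = 1) (h678 : P 6 * P 7 * P 8 = 1) (h246 : P 2 * P 4 * P 6 = 1)
    (h258 : P 2 * P 5 * P 8 = 1) (h156 : P 1 * P 5 * P 6 = 1) : P 0 = 1 := by
  have c46 : Commute (P 4) (P 6) := (commute_of_line (hP _) (hP _) (hP _) h246).2.2
  have c58 : Commute (P 5) (P 8) := (commute_of_line (hP _) (hP _) (hP _) h258).2.2
  have c56 : Commute (P 5) (P 6) := (commute_of_line (hP _) (hP _) (hP _) h156).2.2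
  have c78 : Commute (P 7) (P 8) := (commute_of_line (hP _) (hP _) (hP _) h678).2.2
  have pair : ∀ a b c, P a * P b * P c = 1 → P b * P c = P a := fun a b c h => by
    rw [← inv_eq_of_mul_eq_one_right (hP a)]
    exact eq_inv_of_mul_eq_one_right (by rw [← mul_assoc]; exact h)
  calc P 0 = P 0 * P 0 * P 0 := by rw [hP, one_mul]
    _ = P 3 * P 6 * (P 4 * P 8) * (P 5 * P 7) := by
        rw [pair 0 3 6 h036, pair 0 4 8 h048, pair 0 5 7 h057]
    _ = P 3 * P 4 * P 6 * (P 8 * P 5) * P 7 := by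
        simp only [← mul_assoc]
        rw [mul_assoc (P 3) (P 6) (P 4), ← c46.eq, ← mul_assoc]
    _ = P 3 * P 4 * (P 6 * P 5) * P 8 * P 7 := by rw [← c58.eq]; simp only [mul_assoc]
    _ = P 3 * P 4 * P 5 * (P 6 * (P 8 * P 7)) := by rw [← c56.eq]; simp only [mul_assoc]
    _ = 1 := by rw [← c78.eq, ← mul_assoc (P 6), h345, h678, one_mul]

end CfsgLib.Y555Spider
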