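import Cfsg.Agent.Y555Spider.FixU

set_option autoImplicit false
set_option maxRecDepth 100000

/-!
Words for nine points forming an affine plane of order three in the transposition space of Fi23 on
31671 cosets, and for eight of its lines.
-/

namespace CfsgLib.Y555Spider

open CfsgLib.CosetEnum

/-- Words leading from the base coset to the nine points. -/
def pW : List (List ℕ) := [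
  [],
  [7],
  [7, 6, 5, 4, 3, 2, 1, 8, 3, 2, 4, 3, 5, 4, 6, 5, 8, 3, 2, 1, 4, 3, 2, 8, 3, 4, 5, 6],
  [7, 6, 5, 4, 3, 2, 1, 0, 8, 3, 2, 1, 4, 3, 5, 9, 8, 3, 2, 1, 4, 3, 2, 5, 4, 6, 5, 8, 3, 2, 4, 3, 5, 8, 9, 8, 3, 2, 1, 4],
  [7, 6, 5, 4, 3, 2, 1, 0, 8, 3, 2, 1, 4, 3, 2, 5, 4, 9, 8, 3, 2, 1, 4, 3, 2, 5, 4, 3, 6, 5, 8, 3, 4, 5, 9, 8, 3, 2, 1, 4],
  [7, 6, 5, 4, 3, 2, 1, 0, 8, 3, 2, 1, 4, 3, 2, 5, 6, 8, 9, 8, 3, 2, 1, 0, 4, 3, 2, 5, 4, 3, 6, 5, 8, 3, 2, 4, 9, 8, 3, 2, 1, 4],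
  [7, 6, 5, 4, 3, 2, 1, 0, 8, 3, 2, 1, 4, 3, 2, 5, 4, 9, 8, 3, 2, 1, 4, 3, 2, 5, 4, 3, 6, 5, 7, 8, 3, 4, 5, 9, 8, 3, 2, 1, 4],
  [7, 6, 5, 4, 3, 2, 1, 0, 8, 3, 2, 1, 4, 3, 2, 5, 4, 9, 8, 3, 2, 1, 0, 4, 3, 2, 5, 4, 3, 6, 5, 8, 3, 2, 4, 9, 8, 3, 2, 1, 4],
  [7, 6, 5, 4, 3, 2, 1, 0, 8, 3, 2, 1, 4, 3, 2, 5, 6, 8, 9, 8, 3, 2, 1, 4, 3, 2, 5, 4, 3, 6, 5, 8, 3, 4, 5, 9, 8, 3, 2, 1, 4]]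

/-- The eight lines used, as triples of indices. -/
def lineIdx : List (ℕ × ℕ × ℕ) := [(0, 3, 6), (0, 4, 8), (0, 5, 7), (3, 4, 5), (6, 7, 8), (2, 4, 6), (2, 5, 8), (1, 5, 6)]

/-- Words carrying the base line to the eight lines. -/
def lW : List (List ℕ) := [
  [6, 5, 4, 3, 2, 1, 0, 8, 3, 2, 1, 4, 3, 5, 9, 8, 3, 2, 1, 4, 3, 2, 5, 4, 6, 5, 8, 3, 2, 4, 3, 5, 8, 9, 8, 3, 2, 1, 4],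
  [6, 5, 4, 3, 2, 1, 0, 8, 3, 2, 1, 4, 3, 2, 5, 4, 9, 8, 3, 2, 1, 4, 3, 2, 5, 4, 3, 6, 5, 8, 3, 4, 5, 9, 8, 3, 2, 1, 4],
  [6, 5, 4, 3, 2, 1, 0, 8, 3, 2, 1, 4, 3, 2, 5, 6, 8, 9, 8, 3, 2, 1, 0, 4, 3, 2, 5, 4, 3, 6, 5, 8, 3, 2, 4, 9, 8, 3, 2, 1, 4],
  [6, 5, 4, 3, 2, 1, 8, 3, 2, 4, 3, 5, 4, 6, 5, 8, 3, 4, 9, 8, 3, 4, 5, 6, 7, 6, 5, 4, 3, 2, 1, 0, 8, 3, 2, 1, 4, 3, 5, 9, 8, 3, 2, 1, 4, 3, 2, 5, 4, 6, 5, 8, 3, 2, 4, 3, 5, 8, 9, 8, 3, 2, 1, 4],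
  [6, 5, 4, 3, 2, 1, 0, 8, 3, 2, 1, 4, 3, 2, 9, 8, 3, 4, 5, 6, 7, 6, 5, 4, 3, 2, 1, 0, 8, 3, 2, 1, 4, 3, 2, 5, 4, 9, 8, 3, 2, 1, 4, 3, 2, 5, 4, 3, 6, 5, 7, 8, 3, 4, 5, 9, 8, 3, 2, 1, 4],
  [6, 5, 4, 3, 2, 1, 0, 8, 3, 2, 1, 4, 3, 5, 4, 6, 9, 8, 3, 2, 1, 4, 3, 2, 5, 4, 3, 6, 8, 3, 4, 5, 6, 9, 8, 7, 6, 5, 4, 3, 2, 1, 8, 3, 2, 4, 3, 5, 4, 6, 5, 8, 3, 2, 1, 4, 3, 2, 8, 3, 4, 5, 6],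
  [6, 5, 4, 3, 2, 1, 0, 8, 3, 2, 1, 4, 3, 5, 6, 9, 8, 3, 2, 1, 4, 3, 5, 4, 6, 5, 8, 3, 2, 1, 4, 3, 2, 9, 8, 7, 6, 5, 4, 3, 2, 1, 8, 3, 2, 4, 3, 5, 4, 6, 5, 8, 3, 2, 1, 4, 3, 2, 8, 3, 4, 5, 6],
  [6, 5, 4, 3, 2, 1, 0, 8, 3, 2, 1, 4, 3, 2, 5, 6, 8, 9, 8, 3, 2, 1, 4, 3, 2, 5, 4, 3, 6, 5, 8, 3, 4, 5, 9, 8, 3, 2, 1, 4, 7]]

/-- The lines are where the words say. -/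
noncomputable def lineOK (s : ℕ) : Bool :=
  Nat.beq (walk Fi23H.enum.tb (lW.getD s []) 0) (walk Fi23H.enum.tb (pW.getD (lineIdx.getD s (0, 0, 0)).1 []) 0) &&
    Nat.beq (walk Fi23H.enum.tb (7 :: lW.getD s []) 0)
      (walk Fi23H.enum.tb (pW.getD (lineIdx.getD s (0, 0, 0)).2.1 []) 0) &&
    Nat.beq (walk Fi23H.enum.tb (7 :: (ZF ++ lW.getD s [])) 0)
      (walk Fi23H.enum.tb (pW.getD (lineIdx.getD s (0, 0, 0)).2.2 []) 0)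

theorem lines_ok : ∀ s, s < 8 → lineOK s = true := by decide +kernel

theorem pW_lt : ∀ w ∈ pW, ∀ x ∈ w, x < 10 := by decide +kernel

theorem lW_lt : ∀ w ∈ lW, ∀ x ∈ w, x < 10 := by decide +kernel

end CfsgLib.Y555Spider
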