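import Cfsg.Agent.Y555Spider.Central
import Cfsg.Agent.Y555Spider.Plane
import Cfsg.Agent.Y555Spider.PlaneData
import Cfsg.Agent.Y555Spider.FixU
import Cfsg.Agent.CosetEnum.Fi23Order.Order

set_option autoImplicit false
set_option maxRecDepth 100000
set_option exponentiation.threshold 200000

/-!
The end node of the first arm equals the element `z` of that arm: modulo the central element of the
third arm, nine of the other generators and `d3` give an image of Fi23, in which the product of
`f1` and `z` has a conjugate at each transposition, with product one along lines; an affine plane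
among the lines makes it trivial.
-/

namespace CfsgLib.Y555Spider

open CfsgLib.CosetEnum

/-- The element `z` of the third arm. -/
noncomputable def z3 : G16 := prodw g (Z12.map fun x => sg (sg x))

theorem sg_lt : ∀ x, x < 16 → sg x < 16 := by decide

theorem exists_tau : ∃ τ : G16 →* G16, ∀ w : List ℕ, (∀ x ∈ w, x < 16) →
    τ (prodw g w) = prodw g (w.map fun x => sg (sg x)) := by
  obtain ⟨r, hr⟩ := exists_rot
  refine ⟨r.comp r, fun w hw => ?_⟩
  rw [MonoidHom.comp_apply, hr w hw, hr _ (by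
    intro x hx
    obtain ⟨y, hy, rfl⟩ := List.mem_map.mp hx
    exact sg_lt y (hw y hy)), List.map_map]
  rfl

theorem Z12_lt : ∀ x ∈ Z12, x < 16 := by decide +kernel

theorem z3_sq : z3 * z3 = 1 := by
  obtain ⟨τ, hτ⟩ := exists_tau
  rw [z3, ← hτ Z12 Z12_lt, ← map_mul, ← z1, z1_sq, map_one]

/-- The letters of Fi23 as letters of Y555. -/
def m (x : ℕ) : ℕ := [13, 12, 11, 0, 1, 2, 3, 4, 6, 7].getD x 0

theorem m_eq : ∀ x, ∃ p ∈ [0, 1, 2, 3, 6, 7, 11, 12, 8, 9, 13, 14], p < 16 ∧ m x = sg (sg p) := by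
  intro x
  by_cases hx : x < 10
  · revert hx; revert x; decide +kernel
  · refine ⟨0, by decide, by decide, ?_⟩
    rw [m, List.getD_eq_default _ _ (by simp only [List.length_cons, List.length_nil]; omega)]
    rfl

theorem z3_commute (x : ℕ) : Commute (g (m x)) z3 := by
  obtain ⟨τ, hτ⟩ := exists_tau
  obtain ⟨p, hp, hp16, hm⟩ := m_eq x
  have h := (z1_commute hp).map τ
  have hg : g p = prodw g [p] := by simp [prodw]
  rw [hg, hτ [p] (by simpa using hp16), z1, hτ Z12 Z12_lt] at h
  simpa [prodw, z3, hm] using h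

/-- The centraliser of `z3`. -/
noncomputable def C : Subgroup G16 := Subgroup.centralizer {z3}

theorem mem_C {c : G16} (h : Commute c z3) : c ∈ C := by
  rw [C, Subgroup.mem_centralizer_iff]
  rintro y rfl
  exact h.eq.symm

/-- The letters inside `C`. -/
noncomputable def cC (x : ℕ) : C := ⟨g (m x), mem_C (z3_commute x)⟩

/-- `z3` inside `C`. -/
noncomputable def zC : C := ⟨z3, mem_C (Commute.refl z3)⟩

instance N_normal : (Subgroup.zpowers zC).Normal := by
  refine ⟨fun n hn c => ?_⟩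
  obtain ⟨k, rfl⟩ := Subgroup.mem_zpowers_iff.mp hn
  have hc : Commute c zC := Subtype.ext (by
    have h := c.2
    simp only [C, Subgroup.mem_centralizer_iff] at h
    exact (h z3 rfl).symm)
  rw [(hc.zpow_right k).eq, mul_inv_cancel_right]
  exact hn

/-- The quotient. -/
abbrev Qz : Type := C ⧸ Subgroup.zpowers zC

/-- The projection. -/
noncomputable abbrev qmk : C →* Qz := QuotientGroup.mk' (Subgroup.zpowers zC)

theorem coe_prodw (w : List ℕ) : ((prodw cC w : C) : G16) = prodw g (w.map m) := by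
  rw [show ((prodw cC w : C) : G16) = C.subtype (prodw cC w) from rfl, map_prodw, prodw_map]
  rfl

theorem eq_one_or_z3 {c : C} (h : qmk c = 1) : (c : G16) = 1 ∨ (c : G16) = z3 := by
  obtain ⟨k, rfl⟩ := Subgroup.mem_zpowers_iff.mp ((QuotientGroup.eq_one_iff c).mp h)
  have h2 : z3 ^ (2 : ℤ) = 1 := by rw [zpow_two]; exact z3_sq
  rw [Subgroup.coe_zpow]
  show z3 ^ k = 1 ∨ z3 ^ k = z3
  obtain ⟨l, rfl | rfl⟩ := Int.even_or_odd' k
  · left; rw [zpow_mul, h2, one_zpow]
  · right; rw [zpow_add, zpow_mul, h2, one_zpow, one_mul, zpow_one]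

theorem eq_one_of_even {c : C} (h : qmk c = 1) (w : List ℕ) (hw : (c : G16) = prodw g w)
    (hlen : w.length % 2 = 0) : prodw g w = 1 := by
  rcases eq_one_or_z3 h with h1 | h1
  · exact hw.symm.trans h1
  · exfalso
    apply ne_one_of_odd (w := w ++ Z12.map fun x => sg (sg x))
    · rw [List.length_append, List.length_map]
      have h2 : Z12.length % 2 = 1 := by decide
      omega
    · rw [prodw_append, ← z3, ← hw, h1, z3_sq]

/-- The E7 relator of Fi23. -/
def E7F : List ℕ := (List.replicate 9 [0, 1, 2, 3, 4, 5, 8]).flatten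

theorem E7F_image : qmk (prodw cC E7F) = 1 := by
  obtain ⟨τ, hτ⟩ := exists_tau
  have h : ((prodw cC E7F : C) : G16) = z3 := by
    rw [coe_prodw, show E7F.map m = Z7.map (fun x => sg (sg x)) by decide +kernel,
      ← hτ Z7 (by decide +kernel), Z7_eq_Z12, z1, hτ Z12 Z12_lt]
    rfl
  rw [show prodw cC E7F = zC from Subtype.ext h]
  exact (QuotientGroup.eq_one_iff zC).mpr (Subgroup.mem_zpowers zC)

theorem exists_psi : ∃ ψ : Fi23.setup.Grp →* Qz, ∀ w : List ℕ, (∀ x ∈ w, x < 10) →
    ψ (prodw Fi23.setup.g w) = qmk (prodw cC w) := by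
  obtain ⟨ψ, hψ⟩ := Fi23.setup.exists_hom (K := Qz) (fun x => qmk (cC x))
    (fun x _ => by rw [← map_mul, show cC x * cC x = 1 from Subtype.ext (g_sq _), map_one])
    (fun w hw => by
      rw [← map_prodw]
      have h : ∀ v ∈ Fi23.setup.words, v = E7F ∨ okWord setup.words (v.map m) = true := by
        decide +kernel
      rcases h w hw with rfl | h1
      · exact E7F_image
      · rw [show prodw cC w = 1 from Subtype.ext ((coe_prodw w).trans (prodw_one_of_ok h1)), map_one])
  exact ⟨ψ, fun w hw => by rw [Fi23.setup.hom_prodw ψ hψ w hw, ← map_prodw]⟩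

theorem uW_eq : uW.map m = (List.replicate 3 (4 :: Z14)).flatten := by decide +kernel

theorem e1z1_cube : (g 4 * z1) ^ 3 = 1 := by
  obtain ⟨φ, e, hφ, -, -, hinj, -⟩ := Fi23.order_and_action
  have hlt : ∀ x ∈ uW, x < 10 := by decide +kernel
  have h1 : prodw Fi23.setup.g uW = 1 := uW_one φ hφ hinj
  obtain ⟨ψ, hψ⟩ := exists_psi
  have h3 := hψ uW hlt
  rw [h1, map_one] at h3
  have h4 := eq_one_of_even h3.symm (uW.map m) (coe_prodw uW) (by decide +kernel)
  rw [uW_eq, prodw_replicate, prodw_cons, Z14_eq_Z12] at h4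
  exact h4

theorem f1_commute_z1 : Commute (g 5) z1 := commute_word (by decide +kernel)

theorem e1f1_cube : (g 4 * g 5) ^ 3 = 1 := by
  have h := prodw_one_of_ok (v := (List.replicate 3 [4, 5]).flatten) (by decide +kernel)
  rw [prodw_replicate] at h
  simpa [prodw] using h

/-- The relation in the symmetric group of degree four on `f1`, `e1`, `z`. -/
theorem s4_line {M : Type*} [Group M] {e f z : M} (he : e * e = 1) (hf : f * f = 1) (hz : z * z = 1)
    (hfz : f * z = z * f) (hef : (e * f) ^ 3 = 1) (hez : (e * z) ^ 3 = 1) :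
    f * z * (e * (f * z) * e) * (z * e * (f * z) * e * z) = 1 := by
  have ie := inv_eq_of_mul_eq_one_right he
  have if' := inv_eq_of_mul_eq_one_right hf
  have iz := inv_eq_of_mul_eq_one_right hz
  have br : ∀ u v : M, u⁻¹ = u → v⁻¹ = v → (u * v) ^ 3 = 1 → u * v * u = v * u * v := by
    intro u v hu hv h
    have h' : u * v * u * (v * u * v) = 1 := by rw [← h]; simp [pow_succ, mul_assoc]
    rw [eq_inv_of_mul_eq_one_left h']
    simp [hu, hv, mul_assoc]
  have b1 := br e z ie iz hez
  have b2 := br e f ie if' hef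
  have ce : ∀ r : M, e * (e * r) = r := fun r => by rw [← mul_assoc, he, one_mul]
  have cf : ∀ r : M, f * (f * r) = r := fun r => by rw [← mul_assoc, hf, one_mul]
  have cz : ∀ r : M, z * (z * r) = r := fun r => by rw [← mul_assoc, hz, one_mul]
  calc f * z * (e * (f * z) * e) * (z * e * (f * z) * e * z)
      = f * z * e * f * (z * e * z) * e * f * (z * e * z) := by simp only [mul_assoc]
    _ = f * z * e * f * (e * z * e) * e * f * (e * z * e) := by rw [b1]
    _ = f * z * (e * f * e) * (z * f) * (e * z * e) := by simp only [mul_assoc, ce]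
    _ = f * z * (f * e * f) * (f * z) * (e * z * e) := by rw [b2, hfz]
    _ = f * z * f * e * (z * e * z) * e := by simp only [mul_assoc, cf]
    _ = f * z * f * e * (e * z * e) * e := by rw [b1]
    _ = f * z * f * z := by simp only [mul_assoc, ce, he, mul_one]
    _ = z * f * f * z := by rw [hfz]
    _ = 1 := by simp only [mul_assoc, cf, hz]

theorem f1_mem_C : g 5 ∈ C := mem_C (commute_word (by decide +kernel))

theorem ZF_image : ((prodw cC ZF : C) : G16) = z1 := by
  rw [coe_prodw, show ZF.map m = Z14 by decide +kernel, Z14_eq_Z12]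

/-- `y = f1 z` inside `C`. -/
noncomputable def yC : C := ⟨g 5, f1_mem_C⟩ * prodw cC ZF

theorem coe_yC : (yC : G16) = g 5 * z1 := by rw [yC, Subgroup.coe_mul, ZF_image]

theorem yC_sq : yC * yC = 1 := by
  refine Subtype.ext ?_
  rw [Subgroup.coe_mul, coe_yC, Subgroup.coe_one,
    show g 5 * z1 * (g 5 * z1) = g 5 * (z1 * g 5) * z1 by simp only [mul_assoc], ← f1_commute_z1.eq,
    show g 5 * (g 5 * z1) * z1 = g 5 * g 5 * (z1 * z1) by simp only [mul_assoc], g_sq, z1_sq, one_mul]

theorem cC_commute_yC {x : ℕ} (hx : x < 10) (h7 : x ≠ 7) : Commute (cC x) yC := by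
  apply Subtype.ext
  show g (m x) * (yC : G16) = (yC : G16) * g (m x)
  rw [coe_yC]
  have h1 : ∀ y, y < 10 → y ≠ 7 →
      okWord setup.words [m y, 5, m y, 5] = true ∧ m y ∈ [0, 1, 2, 3, 6, 7, 11, 12, 8, 9, 13, 14] := by
    decide +kernel
  exact ((commute_letters (h1 x hx h7).1).mul_right (z1_commute (h1 x hx h7).2)).eq

theorem qy_eq_one : qmk yC = 1 := by
  obtain ⟨φ, e, hφ, he, he0, -⟩ := Fi23.order_and_action
  obtain ⟨ψ, hψ⟩ := exists_psi
  let Y : List ℕ → Qz := fun w => (ψ (prodw Fi23.setup.g w))⁻¹ * qmk yC * ψ (prodw Fi23.setup.g w)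
  have hH : ∀ h ∈ Fi23H.enum.H, Commute (ψ h) (qmk yC) := by
    intro h hh
    have hle : Fi23H.enum.H ≤ (Subgroup.centralizer {qmk yC}).comap ψ := by
      refine (Subgroup.closure_le _).mpr ?_
      rintro _ ⟨s, hs, rfl⟩
      have hs' : s < 9 := hs
      have hw : ∀ t, t < 9 → ∃ x, x < 10 ∧ x ≠ 7 ∧ Fi23H.enum.sW.getD t [] = [x] := by
        intro t ht
        interval_cases t
        exacts [⟨0, by decide, by decide, rfl⟩, ⟨1, by decide, by decide, rfl⟩, ⟨2, by decide, by decide, rfl⟩,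
          ⟨3, by decide, by decide, rfl⟩, ⟨4, by decide, by decide, rfl⟩, ⟨5, by decide, by decide, rfl⟩,
          ⟨6, by decide, by decide, rfl⟩, ⟨8, by decide, by decide, rfl⟩, ⟨9, by decide, by decide, rfl⟩]
      obtain ⟨x, hx, h7, hxs⟩ := hw s hs'
      show ψ (prodw Fi23.setup.g (Fi23H.enum.sW.getD s [])) ∈ Subgroup.centralizer {qmk yC}
      rw [hxs, hψ [x] (by simpa using hx), Subgroup.mem_centralizer_iff]
      rintro _ rfl
      have h1 := ((cC_commute_yC hx h7).map qmk).eq.symm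
      simpa [prodw] using h1
    have h2 := hle hh
    rw [Subgroup.mem_comap, Subgroup.mem_centralizer_iff] at h2
    exact (h2 _ rfl).symm
  have hwd : ∀ v w : List ℕ, (∀ x ∈ v, x < 10) → (∀ x ∈ w, x < 10) →
      walk Fi23H.enum.tb v 0 = walk Fi23H.enum.tb w 0 → Y v = Y w := by
    intro v w hv hw hvw
    have hpt : ∀ u : List ℕ, (∀ x ∈ u, x < 10) →
        (e (((prodw Fi23.setup.g u)⁻¹ : Fi23.setup.Grp) : Fi23.setup.Grp ⧸ Fi23H.enum.H)).val =
          walk Fi23H.enum.tb u 0 := by
      intro u hu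
      have h1 := he (prodw Fi23.setup.g u)⁻¹ ((1 : Fi23.setup.Grp) : Fi23.setup.Grp ⧸ Fi23H.enum.H)
      rw [he0, MulAction.Quotient.smul_coe, smul_eq_mul, mul_one, map_inv] at h1
      rw [h1, hφ u hu]
      rfl
    have h2 := e.injective (Fin.ext ((hpt v hv).trans (hvw.trans (hpt w hw).symm)))
    have h3 := QuotientGroup.eq.mp h2
    rw [inv_inv] at h3
    have h4 := hH _ h3
    rw [map_mul, map_inv] at h4
    show (ψ (prodw Fi23.setup.g v))⁻¹ * qmk yC * ψ (prodw Fi23.setup.g v) =
      (ψ (prodw Fi23.setup.g w))⁻¹ * qmk yC * ψ (prodw Fi23.setup.g w)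
    have h5 := h4.eq
    generalize qmk yC = y at h5 ⊢
    generalize ψ (prodw Fi23.setup.g v) = a at h5 ⊢
    generalize ψ (prodw Fi23.setup.g w) = b at h5 ⊢
    calc a⁻¹ * y * a = a⁻¹ * (y * (a * b⁻¹)) * b := by group
      _ = a⁻¹ * (a * b⁻¹ * y) * b := by rw [h5]
      _ = b⁻¹ * y * b := by group
  have hYsq : ∀ w, Y w * Y w = 1 := by
    intro w
    have h1 : qmk yC * qmk yC = 1 := by rw [← map_mul, yC_sq, map_one]
    show _ * _ * _ * (_ * _ * _) = (1 : Qz)
    generalize qmk yC = y at h1 ⊢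
    generalize ψ (prodw Fi23.setup.g w) = a at *
    calc a⁻¹ * y * a * (a⁻¹ * y * a) = a⁻¹ * (y * y) * a := by group
      _ = 1 := by rw [h1]; group
  have hline : ∀ u : List ℕ, (∀ x ∈ u, x < 10) → Y u * Y (7 :: u) * Y (7 :: (ZF ++ u)) = 1 := by
    intro u hu
    have h7 : (7 : ℕ) < 10 := by decide
    have hz : ∀ x ∈ ZF, x < 10 := by decide +kernel
    have e1 : ψ (Fi23.setup.g 7) = qmk (cC 7) := by simpa [prodw] using hψ [7] (by simp)
    have e2 : ψ (prodw Fi23.setup.g ZF) = qmk (prodw cC ZF) := hψ ZF hz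
    have hs4 : yC * (cC 7 * yC * cC 7) * (prodw cC ZF * cC 7 * yC * cC 7 * prodw cC ZF) = 1 := by
      refine Subtype.ext ?_
      simp only [Subgroup.coe_mul, Subgroup.coe_one, coe_yC, ZF_image]
      exact s4_line (e := g 4) (g_sq 4) (g_sq 5) z1_sq f1_commute_z1.eq e1f1_cube e1z1_cube
    have hi1 : (qmk (cC 7))⁻¹ = qmk (cC 7) := inv_eq_of_mul_eq_one_right (by
      rw [← map_mul, show cC 7 * cC 7 = 1 from Subtype.ext (g_sq _), map_one])
    have hi2 : (qmk (prodw cC ZF))⁻¹ = qmk (prodw cC ZF) := inv_eq_of_mul_eq_one_right (by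
      rw [← map_mul, show prodw cC ZF * prodw cC ZF = 1 from Subtype.ext (by
        rw [Subgroup.coe_mul, ZF_image, z1_sq, Subgroup.coe_one]), map_one])
    have hs5 := congrArg qmk hs4
    rw [map_one] at hs5
    simp only [map_mul] at hs5
    show (ψ (prodw Fi23.setup.g u))⁻¹ * qmk yC * ψ (prodw Fi23.setup.g u) *
      ((ψ (prodw Fi23.setup.g (7 :: u)))⁻¹ * qmk yC * ψ (prodw Fi23.setup.g (7 :: u))) *
      ((ψ (prodw Fi23.setup.g (7 :: (ZF ++ u))))⁻¹ * qmk yC * ψ (prodw Fi23.setup.g (7 :: (ZF ++ u)))) = 1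
    simp only [prodw_cons, prodw_append, map_mul, e1, e2, mul_inv_rev, hi1, hi2]
    generalize qmk yC = y at hs5 ⊢
    generalize qmk (cC 7) = c at hs5 ⊢
    generalize qmk (prodw cC ZF) = z at hs5 ⊢
    generalize ψ (prodw Fi23.setup.g u) = a at *
    calc _ = a⁻¹ * (y * (c * y * c) * (z * c * y * c * z)) * a := by group
      _ = 1 := by rw [hs5]; group
  let P : ℕ → Qz := fun i => Y (pW.getD i [])
  have hgetP : ∀ i, ∀ x ∈ pW.getD i [], x < 10 := by
    intro i x hx
    by_cases hi : i < pW.length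
    · rw [List.getD_eq_getElem _ _ hi] at hx; exact pW_lt _ (List.getElem_mem hi) x hx
    · rw [List.getD_eq_default _ _ (Nat.le_of_not_lt hi)] at hx; exact absurd hx List.not_mem_nil
  have hl : ∀ s, s < 8 → P (lineIdx.getD s (0, 0, 0)).1 * P (lineIdx.getD s (0, 0, 0)).2.1 *
      P (lineIdx.getD s (0, 0, 0)).2.2 = 1 := by
    intro s hs
    have h1 := lines_ok s hs
    unfold lineOK at h1
    simp only [Bool.and_eq_true, Nat.beq_eq] at h1
    have hs' : s < lW.length := hs
    have hg : ∀ x ∈ lW.getD s [], x < 10 := by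
      rw [List.getD_eq_getElem _ _ hs']; exact lW_lt _ (List.getElem_mem hs')
    have h7g : ∀ x ∈ (7 :: lW.getD s []), x < 10 := by
      intro x hx; rcases List.mem_cons.mp hx with rfl | hx
      · decide
      · exact hg x hx
    have h7zg : ∀ x ∈ (7 :: (ZF ++ lW.getD s [])), x < 10 := by
      intro x hx; rcases List.mem_cons.mp hx with rfl | hx
      · decide
      · rcases List.mem_append.mp hx with hx | hx
        · exact (show ∀ x ∈ ZF, x < 10 by decide +kernel) x hx
        · exact hg x hx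
    show Y _ * Y _ * Y _ = 1
    rw [← hwd _ _ hg (hgetP _) h1.1.1, ← hwd _ _ h7g (hgetP _) h1.1.2, ← hwd _ _ h7zg (hgetP _) h1.2]
    exact hline _ hg
  have h0 := plane_point_eq_one P (fun i => hYsq _) (hl 0 (by decide)) (hl 1 (by decide))
    (hl 2 (by decide)) (hl 3 (by decide)) (hl 4 (by decide)) (hl 5 (by decide)) (hl 6 (by decide))
    (hl 7 (by decide))
  have h1 : pW.getD 0 [] = [] := rfl
  simp only [P, Y, h1, prodw_nil, map_one, inv_one, one_mul, mul_one] at h0
  exact h0

/-- The end node of the first arm. -/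
theorem f1_eq : g 5 = z1 := by
  have h1 := eq_one_of_even qy_eq_one (5 :: Z12) (by rw [coe_yC, prodw_cons]; rfl) (by decide +kernel)
  rw [prodw_cons, ← z1] at h1
  calc g 5 = g 5 * (z1 * z1) := by rw [z1_sq, mul_one]
    _ = z1 := by rw [← mul_assoc, h1, one_mul]

end CfsgLib.Y555Spider
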