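import Cfsg.Agent.CosetEnum.Hom
import Cfsg.Prelude.Def_Spor_M

set_option autoImplicit false
set_option maxRecDepth 100000

/-!
The group presented on the Y555 diagram by the Coxeter relators and the spider relation alone, word
lemmas for it, and its endomorphism permuting the three arms cyclically.
-/

namespace CfsgLib.Y555Spider

open CfsgLib.CosetEnum
open Cfsg.Spor

/-- Letters as nodes: `0 = a`, then arm 1, arm 2, arm 3. -/
def en : ℕ → Bimonster.Gen
  | 0 => .a | 1 => .b1 | 2 => .c1 | 3 => .d1 | 4 => .e1 | 5 => .f1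
  | 6 => .b2 | 7 => .c2 | 8 => .d2 | 9 => .e2 | 10 => .f2
  | 11 => .b3 | 12 => .c3 | 13 => .d3 | 14 => .e3 | _ => .f3

/-- Nodes as letters. -/
def ix : Bimonster.Gen → ℕ
  | .a => 0 | .b1 => 1 | .c1 => 2 | .d1 => 3 | .e1 => 4 | .f1 => 5
  | .b2 => 6 | .c2 => 7 | .d2 => 8 | .e2 => 9 | .f2 => 10
  | .b3 => 11 | .c3 => 12 | .d3 => 13 | .e3 => 14 | .f3 => 15

/-- The spider word. -/
def spider : List ℕ := (List.replicate 10 [0, 1, 2, 0, 6, 7, 0, 11, 12]).flatten

/-- The spider relator. -/
def extra : List (FreeGroup Bimonster.Gen) :=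
  [(Bimonster.a * Bimonster.b1 * Bimonster.c1 * Bimonster.a * Bimonster.b2 * Bimonster.c2 *
    Bimonster.a * Bimonster.b3 * Bimonster.c3) ^ 10]

theorem exW_eq (K : Type) [Group K] (f : Bimonster.Gen → K) :
    extra.map (FreeGroup.lift f) = [spider].map (prodw (f ∘ en)) := by
  simp [extra, spider, prodw, en, pow_succ, mul_assoc]

/-- The setup. -/
noncomputable def setup : Setup Bimonster.Gen where
  edges := Bimonster.edges
  extra := extra
  k := 16
  en := en
  ix := ix
  exW := [spider]
  words := coxWords en 16 Bimonster.edges ++ [spider]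
  en_ix := fun x => by cases x <;> rfl
  ix_lt := fun x => by cases x <;> decide
  ix_en := fun x hx => by interval_cases x <;> rfl
  node := fun x => by cases x <;> decide
  exW_eq := fun K _ f _ => exW_eq K f
  words_eq := rfl
  exW_lt := by decide +kernel

/-- The group with the spider relation only. -/
abbrev G16 : Type := setup.Grp

/-- The generators. -/
noncomputable abbrev g : ℕ → G16 := setup.g

theorem g_sq (x : ℕ) : g x * g x = 1 := setup.of_sq _

section Words

variable {M : Type*} [Group M] {u : ℕ → M}

theorem map_prodw {K : Type*} [Group K] (χ : M →* K) (w : List ℕ) :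
    χ (prodw u w) = prodw (fun x => χ (u x)) w := by
  simp only [prodw, map_list_prod, List.map_map, Function.comp_def]

theorem prodw_map (m : ℕ → ℕ) (w : List ℕ) : prodw u (w.map m) = prodw (fun x => u (m x)) w := by
  simp only [prodw, List.map_map, Function.comp_def]

theorem prodw_reverse (hu : ∀ x, u x * u x = 1) :
    ∀ w : List ℕ, prodw u w.reverse = (prodw u w)⁻¹ := by
  intro w
  induction w with
  | nil => simp [prodw]
  | cons x w ih =>
    rw [List.reverse_cons, prodw_append, ih, prodw_cons, prodw_cons, prodw_nil, mul_one,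
      mul_inv_rev, inv_eq_of_mul_eq_one_right (hu x)]

theorem commute_prodw {b : M} {w : List ℕ} (h : ∀ x ∈ w, Commute b (u x)) :
    Commute b (prodw u w) := by
  induction w with
  | nil => exact Commute.one_right b
  | cons x w ih =>
    rw [prodw_cons]
    exact (h x List.mem_cons_self).mul_right (ih fun y hy => h y (List.mem_cons_of_mem x hy))

/-- A word is a rotation of a listed word or of the reverse of one. -/
def okWord (ws : List (List ℕ)) (v : List ℕ) : Bool :=
  (List.range (v.length + 1)).any fun r =>
    decide (v.drop r ++ v.take r ∈ ws) || decide ((v.drop r ++ v.take r).reverse ∈ ws)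

theorem prodw_eq_one_of_ok (hu : ∀ x, u x * u x = 1) {ws : List (List ℕ)}
    (hws : ∀ w ∈ ws, prodw u w = 1) {v : List ℕ} (h : okWord ws v = true) : prodw u v = 1 := by
  obtain ⟨r, -, hr⟩ := List.any_eq_true.mp h
  have h1 : prodw u (v.drop r ++ v.take r) = 1 := by
    rcases (Bool.or_eq_true _ _).mp hr with h' | h'
    · exact hws _ (of_decide_eq_true h')
    · have := hws _ (of_decide_eq_true h')
      rwa [prodw_reverse hu, inv_eq_one] at this
  rw [prodw_append] at h1
  rw [← List.take_append_drop r v, prodw_append]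
  calc prodw u (v.take r) * prodw u (v.drop r)
      = prodw u (v.take r) * (prodw u (v.drop r) * prodw u (v.take r)) * (prodw u (v.take r))⁻¹ := by
        group
    _ = 1 := by rw [h1, mul_one, mul_inv_cancel]

end Words

theorem prodw_one_of_ok {v : List ℕ} (h : okWord setup.words v = true) : prodw g v = 1 :=
  prodw_eq_one_of_ok g_sq setup.prod_mem h

/-- Two letters whose commutation is a Coxeter relator. -/
theorem commute_letters {x y : ℕ} (h : okWord setup.words [x, y, x, y] = true) :
    Commute (g x) (g y) := by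
  have h1 := prodw_one_of_ok h
  simp only [prodw_cons, prodw_nil, mul_one] at h1
  have hx := inv_eq_of_mul_eq_one_right (g_sq x)
  have hy := inv_eq_of_mul_eq_one_right (g_sq y)
  calc g x * g y = g x * g y * ((g x * (g y * (g x * g y)))⁻¹) := by rw [h1, inv_one, mul_one]
    _ = g y * g x := by simp only [mul_inv_rev, hx, hy, ← mul_assoc]; simp [mul_assoc, g_sq]

theorem commute_word {x : ℕ} {w : List ℕ}
    (h : (w.all fun y => okWord setup.words [x, y, x, y]) = true) :
    Commute (g x) (prodw g w) :=
  commute_prodw fun y hy => commute_letters (List.all_eq_true.mp h y hy)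

/-- The sign homomorphism. -/
theorem exists_sign : ∃ χ : G16 →* ℤˣ, ∀ w : List ℕ, χ (prodw g w) = (-1) ^ w.length := by
  obtain ⟨χ, hχ⟩ := setup.exists_hom (K := ℤˣ) (fun _ => -1) (fun _ _ => by decide)
    (fun w hw => by
      have h2 : ∀ v ∈ setup.words, v.length % 2 = 0 := by decide +kernel
      simp only [prodw, List.map_const', List.prod_replicate]
      obtain ⟨c, hc⟩ := Nat.dvd_of_mod_eq_zero (h2 w hw)
      rw [hc, pow_mul, neg_one_sq, one_pow])
  refine ⟨χ, fun w => ?_⟩
  rw [map_prodw]
  have h : ∀ x, χ (g x) = -1 := fun x => by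
    have hx : g x = setup.g (ix (en x)) := by
      show PresentedGroup.of (en x) = PresentedGroup.of (en (ix (en x)))
      rw [show en (ix (en x)) = en x from setup.en_ix (en x)]
    rw [hx]
    exact hχ _ (setup.ix_lt _)
  simp only [h, prodw, List.map_const', List.prod_replicate]

theorem ne_one_of_odd {w : List ℕ} (h : w.length % 2 = 1) : prodw g w ≠ 1 := by
  obtain ⟨χ, hχ⟩ := exists_sign
  intro h1
  have h2 := hχ w
  rw [h1, map_one, (Nat.odd_iff.mpr h).neg_one_pow] at h2
  exact absurd h2 (by decide)

/-- The cyclic permutation of the arms, on letters. -/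
def sg (x : ℕ) : ℕ := [0, 6, 7, 8, 9, 10, 11, 12, 13, 14, 15, 1, 2, 3, 4, 5].getD x 0

/-- The endomorphism permuting the arms. -/
theorem exists_rot : ∃ τ : G16 →* G16, ∀ w : List ℕ, (∀ x ∈ w, x < 16) →
    τ (prodw g w) = prodw g (w.map sg) := by
  obtain ⟨τ, hτ⟩ := setup.exists_hom (K := G16) (fun x => g (sg x)) (fun x _ => g_sq _)
    (fun w hw => by
      have h : ∀ v ∈ setup.words, okWord setup.words (v.map sg) = true := by decide +kernel
      rw [← prodw_map]
      exact prodw_one_of_ok (h w hw))
  refine ⟨τ, fun w hw => ?_⟩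
  rw [setup.hom_prodw τ hτ w hw, prodw_map]

end CfsgLib.Y555Spider
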