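import Cfsg.Agent.Y555Spider.Base
import Cfsg.Agent.CosetEnum.Y322Order.Order

set_option autoImplicit false
set_option maxRecDepth 100000

/-!
The ninth power of an E7 Coxeter element in the spider group: it does not depend on which short arm
is truncated, commutes with its Y322, and the version on the third arm.
-/

namespace CfsgLib.Y555Spider

open CfsgLib.CosetEnum

/-- Letters of Y322 as letters of Y555. -/
def a1 (x : ℕ) : ℕ := [0, 1, 2, 3, 6, 7, 11, 12].getD x 0

theorem eq_of_same (v w : List ℕ) (hv : ∀ x ∈ v, x < 8) (hw : ∀ x ∈ w, x < 8)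
    (hpar : (v.length + w.length) % 2 = 0)
    (h : allR (sameWord 3159 Y322H.enum.tb v w) 12 0 = true) :
    prodw g (v.map a1) = prodw g (w.map a1) := by
  obtain ⟨χ, hχ⟩ := Y322.setup.exists_hom (K := G16) (fun x => g (a1 x)) (fun x _ => g_sq _)
    (fun u hu => by
      have h1 : ∀ t ∈ Y322.setup.words, okWord setup.words (t.map a1) = true := by decide +kernel
      rw [← prodw_map]
      exact prodw_one_of_ok (h1 u hu))
  rw [prodw_map, prodw_map, ← Y322.setup.hom_prodw χ hχ v hv, ← Y322.setup.hom_prodw χ hχ w hw,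
    Y322.prodw_eq_of_same v w hv hw hpar h]

/-- `(a b1 b2 b3 c1 c2 d1) ^ 9`. -/
def Z12 : List ℕ := (List.replicate 9 [0, 1, 6, 11, 2, 7, 3]).flatten

/-- `(a b1 b3 b2 c1 c3 d1) ^ 9`. -/
def Z13 : List ℕ := (List.replicate 9 [0, 1, 11, 6, 2, 12, 3]).flatten

/-- `(d1 c1 b1 a b2 c2 b3) ^ 9`. -/
def Z7 : List ℕ := (List.replicate 9 [3, 2, 1, 0, 6, 7, 11]).flatten

/-- The element `z` of the first arm. -/
noncomputable def z1 : G16 := prodw g Z12

theorem Z12_eq : Z12 = Y322.zE7.map a1 := by decide +kernel

theorem Z13_eq_Z12 : prodw g Z13 = z1 := by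
  have h := eq_of_same (List.replicate 9 [0, 1, 6, 4, 2, 7, 3]).flatten Y322.zE7 (by decide +kernel)
    (by decide +kernel) (by decide +kernel) (by decide +kernel)
  rw [z1, Z12_eq, ← h]
  exact congrArg _ (by decide +kernel)

theorem Z7_eq_Z12 : prodw g Z7 = z1 := by
  have h := eq_of_same (List.replicate 9 [3, 2, 1, 0, 4, 5, 6]).flatten Y322.zE7 (by decide +kernel)
    (by decide +kernel) (by decide +kernel) (by decide +kernel)
  rw [z1, Z12_eq, ← h]
  exact congrArg _ (by decide +kernel)

/-- `(c3 b3 a b1 c1 d1 b2) ^ 9`. -/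
def Z14 : List ℕ := (List.replicate 9 [12, 11, 0, 1, 2, 3, 6]).flatten

theorem Z14_eq_Z12 : prodw g Z14 = z1 := by
  have h := eq_of_same (List.replicate 9 [7, 6, 0, 1, 2, 3, 4]).flatten Y322.zE7 (by decide +kernel)
    (by decide +kernel) (by decide +kernel) (by decide +kernel)
  rw [z1, Z12_eq, ← h]
  exact congrArg _ (by decide +kernel)

theorem z1_sq : z1 * z1 = 1 := by
  have h := eq_of_same (Y322.zE7 ++ Y322.zE7) [] (by decide +kernel)
    (fun x hx => absurd hx List.not_mem_nil) (by decide +kernel) (by decide +kernel)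
  rw [List.map_append, prodw_append, ← Z12_eq] at h
  exact h

theorem z1_commute_letter {x : ℕ} (hx : x < 8) : Commute (g (a1 x)) z1 := by
  have key : ∀ y, y < 8 → allR (sameWord 3159 Y322H.enum.tb (y :: Y322.zE7) (Y322.zE7 ++ [y])) 12 0 = true := by
    decide +kernel
  have h := eq_of_same (x :: Y322.zE7) (Y322.zE7 ++ [x])
    (by intro y hy; rcases List.mem_cons.mp hy with rfl | hy
        · exact hx
        · exact (show ∀ y ∈ Y322.zE7, y < 8 by decide +kernel) y hy)
    (by intro y hy; rcases List.mem_append.mp hy with hy | hy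
        · exact (show ∀ y ∈ Y322.zE7, y < 8 by decide +kernel) y hy
        · rw [List.mem_singleton.mp hy]; exact hx)
    (by simp only [List.length_cons, List.length_append, List.length_nil]; omega) (key x hx)
  rw [List.map_cons, List.map_append, prodw_cons, prodw_append, ← Z12_eq] at h
  simpa [prodw, Commute, SemiconjBy, z1] using h

/-- The letters commuting with `z1`. -/
theorem z1_commute {x : ℕ} (hx : x ∈ [0, 1, 2, 3, 6, 7, 11, 12, 8, 9, 13, 14]) :
    Commute (g x) z1 := by
  simp only [List.mem_cons, List.not_mem_nil, or_false] at hx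
  rcases hx with rfl | rfl | rfl | rfl | rfl | rfl | rfl | rfl | rfl | rfl | rfl | rfl
  · exact z1_commute_letter (x := 0) (by norm_num)
  · exact z1_commute_letter (x := 1) (by norm_num)
  · exact z1_commute_letter (x := 2) (by norm_num)
  · exact z1_commute_letter (x := 3) (by norm_num)
  · exact z1_commute_letter (x := 4) (by norm_num)
  · exact z1_commute_letter (x := 5) (by norm_num)
  · exact z1_commute_letter (x := 6) (by norm_num)
  · exact z1_commute_letter (x := 7) (by norm_num)
  · rw [← Z13_eq_Z12]; exact commute_word (by decide +kernel)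
  · exact commute_word (by decide +kernel)
  · exact commute_word (by decide +kernel)
  · exact commute_word (by decide +kernel)

end CfsgLib.Y555Spider
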